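import Groth.Prelude
import Groth.Agent.Lib.ProjCoh.Coherent
import Groth.Agent.Lib.ProjMor.Conv
import Groth.Agent.Lib.ProperFin.ProjFacts
import Groth.Agent.Lib.ZarCoh.Linear
import Groth.Agent.Lib.Curves.GlobalSections
import Groth.Agent.Lib.Modules.ProjFormula
import Groth.Agent.Lib.ProjSpace.Basic
import Groth.Agent.Lib.CurveBundle.Twist

/-!
# Embedding by a power of an ample module, and the twists there

Light versions of facts from `ShStab.HilbPoly` and `UnifReg.OnX`.
-/

set_option autoImplicit false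
universe u

open CategoryTheory CategoryTheory.Limits AlgebraicGeometry

noncomputable section

namespace Groth.Agent.Lib.DepthTwist.Embed

open Groth.Agent.Lib TensorMod.Basic ProjCoh.Coherent Curves.LES

variable {k : Type u} [Field k]

theorem isNoetherian_proj (n : ℕ) (k : Type u) [Field k] :
    AlgebraicGeometry.IsNoetherian (CohB1.ProjSpace n k) :=
  haveI : IsProper (CohB1.ProjSpace n k ↘ Spec (CommRingCat.of k)) :=
    ProjSpace.Basic.isProper_toSpec n k
  Curves.GlobalSections.isNoetherian_of_proper k (CohB1.ProjSpace n k)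

/-- `M(a)(b) ≅ M(c)`. -/
def twIso2 {n : ℕ} (A : (CohB1.ProjSpace n k).Modules) (a b c : ℤ) (h : a + b = c) :
    CohB1.tensorMod (CohB1.tensorMod A (tw n k a)) (tw n k b) ≅ CohB1.tensorMod A (tw n k c) :=
  assoc A (tw n k a) (tw n k b) ≪≫
    tensorIso (Iso.refl A) (twTensor a b ≪≫ eqToIso (congrArg (tw n k) h))

variable {X : Scheme.{u}} [X.Over (Spec (CommRingCat.of k))]

theorem exists_embedding [IsProper (X ↘ Spec (CommRingCat.of k))] {L : X.Modules}
    (hL : CohB1.IsAmple L) :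
    ∃ (N r : ℕ) (j : X ⟶ CohB1.ProjSpace r k), 0 < N ∧ IsClosedImmersion j ∧
      j ≫ CohB1.ProjSpace.toSpec r k = X ↘ Spec (CommRingCat.of k) ∧
      Nonempty (CohB1.tensorPow L N ≅ (Scheme.Modules.pullback j).obj (tw r k 1)) := by
  obtain ⟨n₀, hn⟩ := ProjMor.Conv.eventually_veryAmple_pow (X ↘ Spec (CommRingCat.of k)) hL
  obtain ⟨r, i, hi, hc, ⟨e⟩⟩ := hn (n₀ + 1) (by omega)
  let o := ProjSpace.BaseChange.overSpecIso r k
  let j := i ≫ o.hom
  have hj : j ≫ CohB1.ProjSpace.toSpec r k = X ↘ Spec (CommRingCat.of k) := by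
    rw [Category.assoc, ProjSpace.BaseChange.overSpecIso_hom_toSpec]
    exact hc
  haveI : IsImmersion j := inferInstance
  haveI : IsProper (j ≫ CohB1.ProjSpace.toSpec r k) := by rw [hj]; infer_instance
  haveI : IsProper j := IsProper.of_comp j (CohB1.ProjSpace.toSpec r k)
  let φ := ProjSpace.BaseChange.projMap r (ProjSpace.BaseChange.ulz k)
  obtain ⟨eO⟩ := ProperFin.ProjFacts.nonempty_pullback_O r (ULift.{u} ℤ) k
    (ProjSpace.BaseChange.ulz k) 1
  refine ⟨n₀ + 1, r, j, by omega,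
    IsClosedImmersion.of_isPreimmersion j (j.isClosedMap.isClosed_range), hj, ⟨e ≪≫ ?_⟩⟩
  let T := Twist.twistProjSpace r (ULift.{u} ℤ) 1
  exact (Scheme.Modules.pullback i).mapIso
      ((Scheme.Modules.pullbackCongr (ProjSpace.BaseChange.overSpecIso_hom_projMap r k).symm).app T ≪≫
        ((Scheme.Modules.pullbackComp o.hom φ).app T).symm) ≪≫
    (Scheme.Modules.pullbackComp i o.hom).app _ ≪≫ (Scheme.Modules.pullback j).mapIso eO

variable {n : ℕ} (i : X ⟶ CohB1.ProjSpace n k) [IsClosedImmersion i] {L : X.Modules}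

omit [X.Over (Spec (CommRingCat.of k))] [IsClosedImmersion i] in
theorem nonempty_pow_iso (hL : Nonempty (L ≅ (Scheme.Modules.pullback i).obj (tw n k 1))) (l : ℕ) :
    Nonempty (CohB1.tensorPow L l ≅ (Scheme.Modules.pullback i).obj (tw n k (l : ℤ))) := by
  obtain ⟨e⟩ := hL
  obtain ⟨j⟩ := ProjCoh.Coherent.nonempty_tensorPow_iso (n := n) (R := k) l
  exact ⟨Ample.Pow.powIso e l ≪≫ (Ample.Pow.pullbackPow i _ l).symm ≪≫
    (Scheme.Modules.pullback i).mapIso j.symm⟩

omit [X.Over (Spec (CommRingCat.of k))] in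
theorem nonempty_push_twist (hL : Nonempty (L ≅ (Scheme.Modules.pullback i).obj (tw n k 1)))
    (F : X.Modules) (l : ℕ) :
    Nonempty ((Coh.push i).obj (CohB1.tensorMod F (CohB1.tensorPow L l)) ≅
      CohB1.tensorMod (X := CohB1.ProjSpace n k) ((Coh.push i).obj F) (tw n k (l : ℤ))) := by
  obtain ⟨eP⟩ := nonempty_pow_iso i hL l
  exact ⟨(Coh.push i).mapIso (tensorIso (Iso.refl F) eP ≪≫ comm _ _) ≪≫
    ((Modules.ProjFormula.projIso i (E := tw n k (l : ℤ))
      (Modules.DualBasis.hasDBases_of_isFinLocFree (TensorMod.LocFree.of_rank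
        (TensorMod.LocFree.of_isInvertible (isInvertible_tw (l : ℤ)))))).app F).symm ≪≫ comm _ _⟩

/-- Cohomology of the twists on `X` and on `P^n`. -/
theorem nonempty_hh (hi : i ≫ CohB1.ProjSpace.toSpec n k = X ↘ Spec (CommRingCat.of k))
    (hL : Nonempty (L ≅ (Scheme.Modules.pullback i).obj (tw n k 1)))
    {F : X.Modules} (hF : Coh.IsCoh F) (l q : ℕ) :
    Nonempty (Coh.HH X (CohB1.tensorMod F (CohB1.tensorPow L l)) q ≃ₗ[k]
      Coh.HH (CohB1.ProjSpace n k)
        (CohB1.tensorMod (X := CohB1.ProjSpace n k) ((Coh.push i).obj F) (tw n k (l : ℤ))) q) := by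
  obtain ⟨e⟩ := nonempty_push_twist i hL F l
  obtain ⟨eP⟩ := nonempty_pow_iso i hL l
  haveI := isNoetherian_proj n k
  have hq : (CohB1.tensorMod F (CohB1.tensorPow L l)).IsQuasicoherent := by
    obtain ⟨eL⟩ := hL
    have hLi : PicF.IsInvertible L :=
      TensorMod.Invertible.isInvertible_of_iso eL.symm (PicLoc.isInvertible_pullback i (isInvertible_tw 1))
    exact (CurveBundle.Twist.isCoh (TensorMod.Invertible.isInvertible_tensorPow hLi l) hF).1
  exact ⟨(ZarCoh.Linear.affineLinearEquiv (A := k) i hi (CohB1.tensorMod F (CohB1.tensorPow L l)) q).symm.trans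
    (isoK k e q)⟩

end Groth.Agent.Lib.DepthTwist.Embed
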