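import Groth.Prelude
import Groth.Agent.S2928
import Groth.Agent.Lib.PushClosed.Unit
import Groth.Agent.Lib.Depth.Basic
import Groth.Agent.Lib.Snapper.Twist
import Groth.Agent.Lib.DepthTwist.Embed
import Groth.Agent.Lib.Cyc.Dev.SchemeEquiv
import Groth.Agent.Lib.ProjKoszul.Chase
import Groth.Agent.Lib.TensorMod.TensorInv
import Groth.Agent.Lib.Curves.LES

/-!
# Vanishing of `H^i(X, F ⊗ L^{-m})` below the depth at the closed points
-/

set_option autoImplicit false
universe u

open CategoryTheory CategoryTheory.Limits AlgebraicGeometry TopologicalSpace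

noncomputable section

namespace Groth.Agent.Lib.DepthTwist.Basic

open Groth.Agent.Lib TensorMod.Basic ProjCoh.Coherent Ample.Pow

/-- Twisting by an invertible module does not change the depth of the stalks. -/
theorem depth_tensor_invertible {X : Scheme.{u}} {M : X.Modules} (hM : PicF.IsInvertible M)
    (F : X.Modules) (x : X) :
    LocCoh.depth (X.presheaf.stalk x) ((CohB1.tensorMod F M).presheaf.stalk x) =
      LocCoh.depth (X.presheaf.stalk x) (F.presheaf.stalk x) := by
  obtain ⟨e⟩ := Snapper.Twist.exists_stalkEquiv_twist hM F x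
  exact Depth.Basic.depth_congr ((Modules.StalkModule.stalkLinearEquiv (comm F M) x).trans e)

/-- A lower bound for the depth at the closed points passes to the direct image along a closed
immersion. -/
theorem le_depth_push {X P : Scheme.{u}} (i : X ⟶ P) [IsClosedImmersion i] (G : X.Modules) (d : ℕ∞)
    (h : ∀ x : X, IsClosed ({x} : Set X) → d ≤ LocCoh.depth (X.presheaf.stalk x) (G.presheaf.stalk x))
    (y : P) (hy : IsClosed ({y} : Set P)) :
    d ≤ LocCoh.depth (P.presheaf.stalk y) (((Coh.push i).obj G).presheaf.stalk y) := by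
  by_cases hr : y ∈ Set.range i
  · obtain ⟨z, rfl⟩ := hr
    have hz : IsClosed ({z} : Set X) := by
      rw [show ({z} : Set X) = i ⁻¹' {i z} from
        Set.ext fun w => ⟨fun hw => congrArg i hw, fun hw => i.isEmbedding.injective hw⟩]
      exact hy.preimage i.continuous
    letI : Algebra (P.presheaf.stalk (i z)) (X.presheaf.stalk z) := (i.stalkMap z).hom.toAlgebra
    letI : Module (P.presheaf.stalk (i z)) (G.presheaf.stalk z) :=
      Module.compHom _ (i.stalkMap z).hom
    haveI : IsScalarTower (P.presheaf.stalk (i z)) (X.presheaf.stalk z) (G.presheaf.stalk z) :=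
      IsScalarTower.of_algebraMap_smul fun _ _ => rfl
    let φ : ((Scheme.Modules.pushforward i).obj G).presheaf.stalk (i z) →ₗ[P.presheaf.stalk (i z)]
        G.presheaf.stalk z :=
      { toFun := DerivedOX.PullbackStalk.pushStalkMap i z G
        map_add' := fun a b => map_add _ a b
        map_smul' := fun c a => DerivedOX.PullbackStalk.pushStalkMap_smul i z G c a }
    let e := LinearEquiv.ofBijective φ (PushClosed.Unit.bijective_pushStalkMap i G z)
    refine le_of_le_of_eq (h z hz) ?_
    refine Eq.trans ?_ (Depth.Basic.depth_congr e).symm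
    exact (Depth.Basic.depth_eq_of_surjective (i.stalkMap_surjective z)).symm
  · haveI := PushClosed.Unit.subsingleton_stalk_push i G hr
    exact le_of_le_of_eq le_top (Depth.Basic.idealDepth_subsingleton (I := _)).symm

variable (k : Type u) [Field k] {X : Scheme.{u}} [X.Over (Spec (CommRingCat.of k))]
  [IsProper (X ↘ Spec (CommRingCat.of k))]

include k in
/-- Negative twists kill the cohomology below the depth at the closed points. -/
theorem exists_vanish {L : X.Modules} (hL : CohB1.IsAmple L) {M : X.Modules}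
    (hM : ClSub.IsInverseOf L M) {F : X.Modules} (hF : Coh.IsCoh F) (n : ℕ)
    (h : ∀ x : X, IsClosed ({x} : Set X) →
      (n : ℕ∞) < LocCoh.depth (X.presheaf.stalk x) (F.presheaf.stalk x)) :
    ∃ m₀ : ℕ, ∀ m : ℕ, m₀ ≤ m → ∀ i : ℕ, i ≤ n →
      Subsingleton (Coh.HH X (CohB1.tensorMod F (CohB1.tensorPow M m)) i) := by
  obtain ⟨N, r, j, hN, hj, hjo, hpow⟩ := Embed.exists_embedding (k := k) hL
  haveI := hj
  obtain ⟨eLM⟩ := hM
  have hMi : PicF.IsInvertible M :=
    TensorMod.TensorInv.isInvertible_of_tensor_iso ((comm M L) ≪≫ eLM)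
  haveI := Embed.isNoetherian_proj r k
  have hFj : ∀ s : ℕ, Coh.IsCoh (CohB1.tensorMod F (CohB1.tensorPow M s)) := fun s =>
    CurveBundle.Twist.isCoh (TensorMod.Invertible.isInvertible_tensorPow hMi s) hF
  have hv : ∀ s : ℕ, ∃ m₁ : ℤ, ∀ m : ℤ, m₁ ≤ m → ∀ i : ℕ, i ≤ n →
      Subsingleton (Coh.HH (CohB1.ProjSpace r k) (Twist.twistBy _
        ((Coh.push j).obj (CohB1.tensorMod F (CohB1.tensorPow M s))) (-m)) i) := fun s => by
    refine (S2928.result k r _ (Cyc.Dev.SchemeEquiv.isCoh_push j (hFj s)) n).2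
      fun y hy => ?_
    refine lt_of_lt_of_le (show (n : ℕ∞) < ((n + 1 : ℕ) : ℕ∞) from by exact_mod_cast n.lt_succ_self) ?_
    refine le_depth_push j _ _ (fun x hx => ?_) y hy
    rw [depth_tensor_invertible (TensorMod.Invertible.isInvertible_tensorPow hMi s)]
    exact_mod_cast ENat.natCast_add_one_le_iff.2 (h x hx)
  choose f hf using hv
  refine ⟨N * ((Finset.range N).sup fun s => (f s).toNat) + N, fun m hm i hi => ?_⟩
  let q := m / N
  have hs : m % N < N := Nat.mod_lt m hN
  have hq : (f (m % N)).toNat ≤ q := by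
    refine le_trans (Finset.le_sup (f := fun s => (f s).toNat) (Finset.mem_range.2 hs)) ?_
    rw [Nat.le_div_iff_mul_le hN, mul_comm]
    omega
  let F' := CohB1.tensorMod F (CohB1.tensorPow M m)
  have hunit : Nonempty (CohB1.tensorMod (CohB1.tensorPow M (N * q))
      (CohB1.tensorPow (CohB1.tensorPow L N) q) ≅ Coh.structureModule X) :=
    ⟨tensorIso (Iso.refl _) (powMul L N q) ≪≫ (powTensor M L (N * q)).symm ≪≫
      powIso ((comm M L) ≪≫ eLM) (N * q) ≪≫ powUnit X (N * q)⟩
  obtain ⟨u⟩ := hunit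
  have hback : Nonempty (CohB1.tensorMod F' (CohB1.tensorPow (CohB1.tensorPow L N) q) ≅
      CohB1.tensorMod F (CohB1.tensorPow M (m % N))) :=
    ⟨tensorIso (tensorIso (Iso.refl F) (powCongr M (Nat.mod_add_div m N).symm ≪≫ powAdd M (m % N) (N * q)))
        (Iso.refl _) ≪≫
      assoc _ _ _ ≪≫ tensorIso (Iso.refl F) (assoc _ _ _ ≪≫ tensorIso (Iso.refl _) u ≪≫
        rightUnit _)⟩
  obtain ⟨eb⟩ := hback
  obtain ⟨ep⟩ := Embed.nonempty_push_twist j hpow F' q
  obtain ⟨eh⟩ := Embed.nonempty_hh j hjo hpow (hFj m) 0 i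
  have hneg : Subsingleton (Coh.HH (CohB1.ProjSpace r k) (Twist.twistBy _
      ((Coh.push j).obj (CohB1.tensorMod F (CohB1.tensorPow M (m % N)))) (-(q : ℤ))) i) :=
    hf (m % N) (q : ℤ) ((Int.self_le_toNat _).trans (by exact_mod_cast hq)) i hi
  have e2 : Nonempty (CohB1.tensorMod (X := CohB1.ProjSpace r k) ((Coh.push j).obj F') (tw r k ((0 : ℕ) : ℤ)) ≅
      CohB1.tensorMod (X := CohB1.ProjSpace r k)
        ((Coh.push j).obj (CohB1.tensorMod F (CohB1.tensorPow M (m % N)))) (tw r k (-(q : ℤ)))) := by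
    let et := Embed.twIso2 (n := r) ((Coh.push j).obj F') (q : ℤ) (-(q : ℤ))
      ((0 : ℕ) : ℤ) (by simp)
    exact ⟨et.symm ≪≫ tensorIso (X := CohB1.ProjSpace r k) (ep.symm ≪≫ (Coh.push j).mapIso eb)
      (Iso.refl _)⟩
  obtain ⟨e2⟩ := e2
  have h0 : Subsingleton (Coh.HH X (CohB1.tensorMod F' (CohB1.tensorPow (CohB1.tensorPow L N) 0)) i) := by
    have := ProjKoszul.Chase.subsingleton_of_iso k e2.symm hneg
    exact eh.toEquiv.subsingleton
  exact ProjKoszul.Chase.subsingleton_of_iso k (rightUnit F') h0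

end Groth.Agent.Lib.DepthTwist.Basic
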