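import Groth.Prelude
import Groth.Agent.H26.ZeroFrame
import Groth.Agent.Lib.SurfInt.Div
import Groth.Agent.Lib.SurfInt.Mul
import Groth.Agent.Lib.Ideal.EffCartier
import Groth.Agent.H90.ConnFun
import Groth.Agent.Lib.ClSub.Quot
import Groth.Agent.Lib.Exchange.Proper
import Groth.Agent.Lib.DepthTwist.Basic

/-!
# Connectedness of the zero scheme of a regular section of an ample module
-/

set_option autoImplicit false
set_option linter.style.haveILetI false
universe u

open CategoryTheory CategoryTheory.Limits AlgebraicGeometry TopologicalSpace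

noncomputable section

namespace Groth.Agent.Lib.DepthTwist.Zero

open Groth.Agent.Lib Groth.Agent.Lib.Modules Groth.Agent.Lib.SurfInt.Stalk Groth.Agent.Lib.SurfInt.Div
open Groth.Agent.Lib.Ideal.Prime (stalkIdeal stalkIdeal_eq)

variable {X : Scheme.{u}} {L : X.Modules}

/-- The zero scheme of a regular section. -/
theorem divisor_spec (hL : PicF.IsInvertible L) (s : Coh.structureModule X ⟶ L) [Mono s] :
    BlowUp.IsEffCartierIdeal (PicF2.zeroScheme L s) ∧
      Nonempty (CohB1.tensorMod L (_root_.ClSub.idealMod (PicF2.zeroScheme L s)) ≅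
        Coh.structureModule X) ∧
      ((PicF2.zeroScheme L s).support : Set X) = (CohB1.genLocus L s : Set X)ᶜ := by
  let D := PicF2.zeroScheme L s
  have hloc : ∀ x : X, ∃ (F : H95.ZeroSch.Frame L) (_ : x ∈ F.V.1) (a : Γ(X, F.V.1)),
      a ∈ nonZeroDivisors Γ(X, F.V.1) ∧ D.ideal F.V = _root_.Ideal.span {a} ∧
        SecTwist.val s F.V.1 = a • F.e := by
    intro x
    obtain ⟨F, hxF, -⟩ := H95.ZeroSch.exists_frame hL (show x ∈ (⊤ : X.Opens) from trivial)
    refine ⟨F, hxF, H95.ZeroSch.coord F (H95.ZeroSch.sv s F.V.1), ?_,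
      H26.ZeroFrame.zeroScheme_ideal_eq hL s F, (H95.ZeroSch.coord_smul F _).symm⟩
    have hval : SecTwist.val s F.V.1 = H95.ZeroSch.coord F (H95.ZeroSch.sv s F.V.1) • F.e :=
      (H95.ZeroSch.coord_smul F _).symm
    rw [mem_nonZeroDivisors_iff_right]
    intro b hb
    refine TopCat.Presheaf.section_ext X.sheaf F.V.1 b 0 fun y hy => ?_
    have hinj := (StalkModule.mono_iff_stalkMapₗ_injective s).mp inferInstance y
    have h1 : StalkModule.stalkMapₗ s y ((oStalk y).symm (X.presheaf.germ F.V.1 y hy b)) = 0 := by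
      have : (oStalk y).symm (X.presheaf.germ F.V.1 y hy b) =
          X.presheaf.germ F.V.1 y hy b • (oStalk y).symm 1 := by
        rw [← map_smul, smul_eq_mul, mul_one]
      rw [this, map_smul]
      change X.presheaf.germ F.V.1 y hy b • germOne L s y = 0
      rw [germOne_eq L s hy, hval, StalkModule.germ_smul, ← mul_smul, ← map_mul, hb, map_zero, zero_smul]
    have h2 := (map_eq_zero_iff _ hinj).mp h1
    rw [LinearEquiv.map_eq_zero_iff] at h2
    exact h2.trans (map_zero _).symm
  have hstalk : ∀ x : X, ∃ (e : L.presheaf.stalk x) (c : X.presheaf.stalk x),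
      Submodule.span (X.presheaf.stalk x) {e} = ⊤ ∧
      (∀ r : X.presheaf.stalk x, r • e = 0 → r = 0) ∧
      stalkIdeal D x = _root_.Ideal.span {c} ∧ germOne L s x = c • e := by
    intro x
    obtain ⟨F, hxF, a, -, hD, hval⟩ := hloc x
    obtain ⟨h1, h2⟩ := span_germ_eq_top F.he hxF
    exact ⟨_, X.presheaf.germ F.V.1 x hxF a, h1, h2,
      by rw [stalkIdeal_eq _ F.V hxF, hD, _root_.Ideal.map_span, Set.image_singleton],
      by rw [germOne_eq L s hxF, hval, StalkModule.germ_smul]⟩
  haveI := mono_gMap D hL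
  have w1 : s ≫ cokernel.π (gMap D L) = 0 := by
    refine StalkModule.hom_ext_stalkMapₗ fun x => LinearMap.ext fun z => ?_
    obtain ⟨e, c, he, -, hD, hone⟩ := hstalk x
    obtain ⟨r, hr⟩ := (range_stalk_section L s x _).mp ⟨z, rfl⟩
    obtain ⟨w, hw⟩ := (mem_range_gMap_iff D x he (StalkModule.stalkMapₗ s x z)).mpr
      ⟨r * c, hD ▸ _root_.Ideal.mul_mem_left _ r (_root_.Ideal.mem_span_singleton_self c),
        by rw [mul_smul, ← hone, hr]⟩
    rw [StalkModule.stalkMapₗ_comp, LinearMap.comp_apply, ← hw, ← LinearMap.comp_apply,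
      ← StalkModule.stalkMapₗ_comp, cokernel.condition, StalkModule.stalkMapₗ_zero,
      StalkModule.stalkMapₗ_zero]
    rfl
  have w2 : gMap D L ≫ cokernel.π s = 0 := by
    refine StalkModule.hom_ext_stalkMapₗ fun x => LinearMap.ext fun z => ?_
    obtain ⟨e, c, he, -, hD, hone⟩ := hstalk x
    obtain ⟨r, hr, hre⟩ := (mem_range_gMap_iff D x he _).mp ⟨z, rfl⟩
    rw [hD, _root_.Ideal.mem_span_singleton'] at hr
    obtain ⟨t, rfl⟩ := hr
    obtain ⟨w, hw⟩ := (range_stalk_section L s x (StalkModule.stalkMapₗ (gMap D L) x z)).mpr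
      ⟨t, by rw [hone, ← mul_smul, hre]⟩
    rw [StalkModule.stalkMapₗ_comp, LinearMap.comp_apply, ← hw, ← LinearMap.comp_apply,
      ← StalkModule.stalkMapₗ_comp, cokernel.condition, StalkModule.stalkMapₗ_zero,
      StalkModule.stalkMapₗ_zero]
    rfl
  refine ⟨fun x => ?_, ⟨{
    hom := Abelian.monoLift s (gMap D L) w2
    inv := Abelian.monoLift (gMap D L) s w1
    hom_inv_id := by
      rw [← cancel_mono (gMap D L), Category.assoc, Abelian.monoLift_comp,
        Abelian.monoLift_comp, Category.id_comp]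
    inv_hom_id := by
      rw [← cancel_mono s, Category.assoc, Abelian.monoLift_comp,
        Abelian.monoLift_comp, Category.id_comp] }⟩, ?_⟩
  · obtain ⟨F, hxF, a, ha, hD, -⟩ := hloc x
    exact ⟨F.V, hxF, a, ha, hD⟩
  · ext x
    obtain ⟨F, hxF, a, -, hD, hval⟩ := hloc x
    rw [Set.mem_compl_iff, SetLike.mem_coe, SetLike.mem_coe,
      Scheme.IdealSheafData.mem_support_iff_of_mem hxF, Scheme.mem_zeroLocus_iff]
    have h := SetLike.ext_iff.mp (Ample.GenLocus.genLocus_inf_eq F.he s hval) x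
    constructor
    · exact fun hz hg => hz a (hD ▸ _root_.Ideal.mem_span_singleton_self a) (h.mp ⟨hg, hxF⟩)
    · intro hg f hf hbf
      rw [hD] at hf
      obtain ⟨t, rfl⟩ := _root_.Ideal.mem_span_singleton'.mp hf
      rw [Scheme.basicOpen_mul] at hbf
      exact hg (h.mpr hbf.2).1

theorem stalkIdeal_top {X : Scheme.{u}} (x : X) : stalkIdeal (⊤ : X.IdealSheafData) x = ⊤ := by
  obtain ⟨U, hU, hxU, -⟩ := exists_isAffineOpen_mem_and_subset (show x ∈ (⊤ : X.Opens) from trivial)
  rw [stalkIdeal_eq _ ⟨U, hU⟩ hxU, Scheme.IdealSheafData.ideal_top]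
  exact _root_.Ideal.map_top _

/-- An element of a finite algebra over a field with only trivial idempotents is a unit or
nilpotent. -/
theorem isUnit_or_isNilpotent {R : Type u} [CommRing R] [IsArtinianRing R]
    (h : ∀ e : R, IsIdempotentElem e → e = 0 ∨ e = 1) (a : R) : IsUnit a ∨ IsNilpotent a := by
  obtain ⟨n, hn⟩ := IsArtinian.range_smul_pow_stabilizes R a
  obtain ⟨r, hr⟩ : ∃ r : R, a ^ (2 * (n + 1)) * r = a ^ (n + 1) := by
    have := hn (n + 1) (by omega)
    have h2 := hn (2 * (n + 1)) (by omega)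
    have hmem : a ^ (n + 1) ∈ LinearMap.range (a ^ (n + 1) • LinearMap.id : R →ₗ[R] R) :=
      ⟨1, by simp⟩
    rw [← this, h2] at hmem
    obtain ⟨r, hr⟩ := hmem
    exact ⟨r, by simpa using hr⟩
  have he : IsIdempotentElem (a ^ (n + 1) * r) := by
    change a ^ (n + 1) * r * (a ^ (n + 1) * r) = _
    calc a ^ (n + 1) * r * (a ^ (n + 1) * r) = (a ^ (2 * (n + 1)) * r) * r := by ring
      _ = _ := by rw [hr]
  rcases h _ he with h0 | h1
  · refine Or.inr ⟨n + 1, ?_⟩
    calc a ^ (n + 1) = a ^ (2 * (n + 1)) * r := hr.symm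
      _ = a ^ (n + 1) * (a ^ (n + 1) * r) := by ring
      _ = 0 := by rw [h0, mul_zero]
  · exact Or.inl ((isUnit_pow_iff (Nat.succ_ne_zero n)).mp (IsUnit.of_mul_eq_one r h1))

/-- Quotients of such a ring have only trivial idempotents. -/
theorem idempotent_of_surjective {R S : Type u} [CommRing R] [CommRing S] [IsArtinianRing R]
    (h : ∀ e : R, IsIdempotentElem e → e = 0 ∨ e = 1) (f : R →+* S) (hf : Function.Surjective f)
    (e : S) (he : IsIdempotentElem e) : e = 0 ∨ e = 1 := by
  obtain ⟨a, rfl⟩ := hf e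
  rcases isUnit_or_isNilpotent h a with ha | ⟨n, hn⟩
  · exact Or.inr ((ha.map f).mul_eq_left.mp he.eq)
  · refine Or.inl ?_
    rw [← he.pow_succ_eq n, pow_succ, ← map_pow, hn, map_zero, zero_mul]

/-- Powers of an effective Cartier ideal. -/
theorem nonempty_tensorPow_idealMod {D : X.IdealSheafData} (hD : BlowUp.IsEffCartierIdeal D) :
    ∀ m : ℕ, Nonempty (CohB1.tensorPow (_root_.ClSub.idealMod D) (m + 1) ≅
      _root_.ClSub.idealMod (D ^ (m + 1)))
  | 0 => ⟨Ample.Pow.powOne _ ≪≫ eqToIso (by rw [pow_one])⟩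
  | m + 1 => by
    obtain ⟨e⟩ := nonempty_tensorPow_idealMod hD m
    obtain ⟨e'⟩ := SurfInt.Mul.nonempty_idealMod_mul (Ideal.EffCartier.isEffCartier_pow hD (m + 1)) D
    exact ⟨TensorMod.Basic.tensorIso e (Iso.refl _) ≪≫ e' ≪≫ eqToIso (by rw [pow_succ D (m + 1)])⟩

variable (k : Type u) [Field k] [X.Over (Spec (CommRingCat.of k))]
  [IsProper (X ↘ Spec (CommRingCat.of k))]

include k in
theorem connectedSpace_zeroScheme [ConnectedSpace X] (hL : CohB1.IsAmple L)
    (s : Coh.structureModule X ⟶ L) [Mono s]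
    (hdepth : ∀ x : X, IsClosed ({x} : Set X) →
      2 ≤ LocCoh.depth (X.presheaf.stalk x) (X.presheaf.stalk x)) :
    ConnectedSpace ↥(PicF2.zeroScheme L s).subscheme := by
  haveI := Curves.GlobalSections.isNoetherian_of_proper k X
  have hO : Coh.IsCoh (Coh.structureModule X) := Ample.GG.isCoh_of_isInvertible (PicLoc.isInvertible_structureModule X)
  obtain ⟨hD, ⟨eD⟩, hsupp⟩ := divisor_spec hL.1 s
  set D := PicF2.zeroScheme L s with hDdef
  let M := _root_.ClSub.idealMod D
  have hM : ClSub.IsInverseOf L M := ⟨eD⟩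
  obtain ⟨m₀, hm⟩ := Basic.exists_vanish k hL hM hO 1 fun x hx => by
    rw [Depth.Basic.depth_congr (oStalk x)]
    exact lt_of_lt_of_le (by norm_num) (hdepth x hx)
  have hv : ∀ i ≤ 1, Subsingleton (Coh.HH X (CohB1.tensorPow M (m₀ + 1)) i) := fun i hi =>
    ProjKoszul.Chase.subsingleton_of_iso k (TensorMod.Basic.leftUnit _) (hm (m₀ + 1) (Nat.le_succ _) i hi)
  obtain ⟨eP⟩ := nonempty_tensorPow_idealMod hD m₀
  let E := D ^ (m₀ + 1)
  have hvE : ∀ i ≤ 1, Subsingleton (Coh.HH X (_root_.ClSub.idealMod E) i) := fun i hi =>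
    ProjKoszul.Chase.subsingleton_of_iso k eP (hv i hi)
  have hs := ClSub.Quot.idealSeq_shortExact E
  have hsurj : Function.Surjective (Curves.LES.mapK k (ClSub.Quot.idealSeq E).g 0) := fun z =>
    (Curves.LES.exactK₃ k hs 0 1 rfl z).1 (@Subsingleton.elim _ (hvE 1 le_rfl) _ _)
  have hsurj' : Function.Surjective (E.subschemeι.app ⊤) :=
    (H90.ConnFun.mapK_zero_surjective_iff _).1 hsurj
  have hid : ∀ e : Γ(X, ⊤), IsIdempotentElem e → e = 0 ∨ e = 1 :=
    fun e he => H90.ConnFun.idempotent_eq_zero_or_one e he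
  haveI : IsArtinianRing Γ(X, ⊤) := by
    letI : Algebra k Γ(X, ⊤) := RingHom.toAlgebra (S := Γ(X, ⊤)) (Coh.toGlobal (X ↘ Spec (CommRingCat.of k)))
    haveI := ZarCoh.Exchange.Proper.finite_HH k (Coh.structureModule X) hO 0
    haveI : Module.Finite k Γ(X, ⊤) :=
      letI := Curves.GlobalSections.secModule k (Coh.structureModule X)
      Module.Finite.equiv (Curves.GlobalSections.h0Linear k (Coh.structureModule X))
    exact IsArtinianRing.of_finite k _
  have hne : Nonempty ↥D.subscheme := by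
    by_contra hempty
    rw [not_nonempty_iff] at hempty
    have hbot : E = ⊤ := by
      rw [← Scheme.IdealSheafData.support_eq_bot_iff, Scheme.IdealSheafData.support_pow_succ]
      refine SetLike.coe_injective ?_
      rw [← Scheme.IdealSheafData.range_subschemeι, Set.range_eq_empty]
      rfl
    have hiso : IsIso (_root_.ClSub.idealModι E) := by
      rw [StalkModule.isIso_iff_stalkMapₗ_bijective]
      intro x
      refine ⟨(StalkModule.mono_iff_stalkMapₗ_injective _).mp (ClSub.Quot.mono_idealModι E) x, fun v => ?_⟩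
      have : oStalk x v ∈ LinearMap.range (idealStalk E x) := by
        rw [range_idealStalk, hbot, stalkIdeal_top]
        exact Submodule.mem_top
      obtain ⟨a, ha⟩ := this
      exact ⟨a, (oStalk x).injective ha⟩
    have h0 := ProjKoszul.Chase.subsingleton_of_iso k (asIso (_root_.ClSub.idealModι E)) (hvE 0 zero_le_one)
    haveI : Nonempty ((⊤ : X.Opens) : Scheme.{u}) := ⟨⟨Classical.arbitrary X, trivial⟩⟩
    exact not_subsingleton Γ(X, ⊤)
      ((Curves.GlobalSections.h0Equiv (Coh.structureModule X)).symm.injective.subsingleton)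
  have hneE : Nonempty ↥E.subscheme := by
    obtain ⟨z⟩ := hne
    have hz : D.subschemeι z ∈ (E.support : Set X) := by
      rw [Scheme.IdealSheafData.support_pow_succ, ← Scheme.IdealSheafData.range_subschemeι]
      exact Set.mem_range_self z
    rw [← Scheme.IdealSheafData.range_subschemeι] at hz
    exact ⟨hz.choose⟩
  haveI : PreconnectedSpace ↥E.subscheme := H90.ConnFun.preconnectedSpace_of_idempotents
    fun e he => idempotent_of_surjective hid (E.subschemeι.app ⊤).hom hsurj' e he
  haveI : ConnectedSpace ↥E.subscheme := { toNonempty := hneE }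
  have hE : _root_.IsConnected (E.support : Set X) := by
    rw [← Scheme.IdealSheafData.range_subschemeι]
    exact isConnected_range E.subschemeι.continuous
  rw [Scheme.IdealSheafData.support_pow_succ, ← Scheme.IdealSheafData.range_subschemeι] at hE
  rw [connectedSpace_iff_univ]
  refine ⟨Set.univ_nonempty, ?_⟩
  rw [← D.subschemeι.isEmbedding.isInducing.isPreconnected_image, Set.image_univ]
  exact hE.isPreconnected

end Groth.Agent.Lib.DepthTwist.Zero
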